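import Cfsg.Agent.H178.RG.Defs
import Cfsg.Agent.H193.SsConj

/-!
# S5714, team RG, piece C1: events from first moments (helper560)

`occ_prod`, `occ_pow`, `occ_ker`.
-/

set_option autoImplicit false
set_option linter.unusedSectionVars false
set_option linter.unusedVariables false

namespace Cfsg.Agent.H560.RG

open Cfsg Cfsg.Agent.H178.RG
open Polynomial

section alg

variable {F ι : Type} [Field F] [Fintype ι] [DecidableEq ι]

theorem aeval_mul_mulVec (x : Matrix ι ι F) (f g : F[X]) (v : ι → F) :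
    (aeval x (f * g)).mulVec v = (aeval x f).mulVec ((aeval x g).mulVec v) := by
  rw [map_mul, Matrix.mulVec_mulVec]

theorem mulVec_of_dvd {x : Matrix ι ι F} {f g : F[X]} {v : ι → F} (h : (aeval x f).mulVec v = 0) (hd : f ∣ g) :
    (aeval x g).mulVec v = 0 := by
  obtain ⟨k, rfl⟩ := hd
  rw [mul_comm, aeval_mul_mulVec, h, Matrix.mulVec_zero]

theorem eq_zero_of_coprime {x : Matrix ι ι F} {f g : F[X]} {v : ι → F} (hc : IsCoprime f g)
    (hf : (aeval x f).mulVec v = 0) (hg : (aeval x g).mulVec v = 0) : v = 0 := by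
  obtain ⟨a, b, hab⟩ := hc
  have h1 : (aeval x (a * f + b * g)).mulVec v = 0 := by
    rw [map_add, Matrix.add_mulVec, aeval_mul_mulVec, aeval_mul_mulVec, hf, hg, Matrix.mulVec_zero, Matrix.mulVec_zero,
      add_zero]
  rwa [hab, map_one, Matrix.one_mulVec] at h1

theorem ann_of_irr {x : Matrix ι ι F} {φ : F[X]} (hφ : Irreducible φ) {v : ι → F} (hv : v ≠ 0)
    (h : (aeval x φ).mulVec v = 0) : Ann x v φ := by
  intro g
  constructor
  · intro hg
    by_contra hd
    exact hv (eq_zero_of_coprime (hφ.coprime_iff_not_dvd.2 hd) h hg)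
  · exact mulVec_of_dvd h

theorem ann_add {x : Matrix ι ι F} {f g : F[X]} (hc : IsCoprime f g) {u w : ι → F} (hu : Ann x u f) (hw : Ann x w g) :
    Ann x (u + w) (f * g) := by
  have hu0 := (hu f).2 dvd_rfl
  have hw0 := (hw g).2 dvd_rfl
  intro k
  constructor
  · intro hk
    have h1 : (aeval x k).mulVec u = -(aeval x k).mulVec w := by
      rw [Matrix.mulVec_add] at hk
      exact eq_neg_of_add_eq_zero_left hk
    have h2 : (aeval x f).mulVec ((aeval x k).mulVec u) = 0 := by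
      rw [← aeval_mul_mulVec, mul_comm, aeval_mul_mulVec, hu0, Matrix.mulVec_zero]
    have h3 : (aeval x g).mulVec ((aeval x k).mulVec u) = 0 := by
      rw [h1, Matrix.mulVec_neg, ← aeval_mul_mulVec, mul_comm, aeval_mul_mulVec, hw0, Matrix.mulVec_zero, neg_zero]
    have h4 := eq_zero_of_coprime hc h2 h3
    have h5 : (aeval x k).mulVec w = 0 := by
      rw [h4] at h1
      exact neg_eq_zero.1 h1.symm
    exact hc.mul_dvd ((hu k).1 h4) ((hw k).1 h5)
  · intro hk
    rw [Matrix.mulVec_add, (hu k).2 ((dvd_mul_right f g).trans hk), (hw k).2 ((dvd_mul_left g f).trans hk), add_zero]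

/-- the number of vectors with given annihilator -/
noncomputable def nA (x : Matrix ι ι F) (f : F[X]) : ℕ := Nat.card {v : ι → F // Ann x v f}

theorem nA_mul [Finite F] (x : Matrix ι ι F) {f g : F[X]} (hc : IsCoprime f g) : nA x f * nA x g ≤ nA x (f * g) := by
  unfold nA
  rw [← Nat.card_prod]
  refine Nat.card_le_card_of_injective
    (fun a : {v : ι → F // Ann x v f} × {v : ι → F // Ann x v g} => (⟨a.1.1 + a.2.1, ann_add hc a.1.2 a.2.2⟩ :
      {v : ι → F // Ann x v (f * g)})) ?_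
  rintro ⟨⟨u, hu⟩, ⟨w, hw⟩⟩ ⟨⟨u', hu'⟩, ⟨w', hw'⟩⟩ h
  have h0 : u + w = u' + w' := congrArg Subtype.val h
  have h1 : u - u' = w' - w := by
    rw [sub_eq_sub_iff_add_eq_add, h0, add_comm]
  have h2 : (aeval x f).mulVec (u - u') = 0 := by
    rw [Matrix.mulVec_sub, (hu f).2 dvd_rfl, (hu' f).2 dvd_rfl, sub_zero]
  have h3 : (aeval x g).mulVec (u - u') = 0 := by
    rw [h1, Matrix.mulVec_sub, (hw g).2 dvd_rfl, (hw' g).2 dvd_rfl, sub_zero]
  have h4 := eq_zero_of_coprime hc h2 h3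
  have h5 : u = u' := sub_eq_zero.1 h4
  have h6 : w = w' := by rw [h4] at h1; exact (sub_eq_zero.1 h1.symm).symm
  subst h5 h6
  rfl

theorem nA_one [Finite F] (x : Matrix ι ι F) : 1 ≤ nA x 1 := by
  have h : Ann x (0 : ι → F) 1 := fun g => ⟨fun _ => one_dvd g, fun _ => Matrix.mulVec_zero _⟩
  have : Nonempty {v : ι → F // Ann x v 1} := ⟨⟨0, h⟩⟩
  exact Nat.card_pos

/-- an irreducible factor of the characteristic polynomial has a kernel -/
theorem exists_ker {x : Matrix ι ι F} {φ : F[X]} (hφ : Irreducible φ) (hd : φ ∣ x.charpoly) :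
    ∃ v : ι → F, v ≠ 0 ∧ (aeval x φ).mulVec v = 0 := by
  by_contra hcon
  push Not at hcon
  have hch : (Matrix.toLin' x).charpoly = x.charpoly := by
    rw [← LinearMap.charpoly_toMatrix (Matrix.toLin' x) (Pi.basisFun F ι), ← LinearMap.toMatrix'_toLin' x]
    simp [LinearMap.toMatrix_eq_toMatrix']
  have hae : ∀ P : F[X], aeval (Matrix.toLin' x) P = Matrix.toLin' (aeval x P) := fun P =>
    Polynomial.aeval_algHom_apply (Matrix.toLinAlgEquiv' (R := F) (n := ι)).toAlgHom x P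
  have h1 : φ ∣ minpoly F x := by
    refine Cfsg.Agent.H193.SsConj.dvd_of_dvd_charpoly (Matrix.toLin' x) hφ (by rw [hch]; exact hd) ?_
    rw [hae, minpoly.aeval, map_zero]
  obtain ⟨m, hm⟩ := h1
  have hint : IsIntegral F x := Algebra.IsIntegral.isIntegral x
  have hne : minpoly F x ≠ 0 := minpoly.ne_zero hint
  have h2 : aeval x m = 0 := by
    apply Matrix.ext_of_mulVec_single
    intro i
    rw [Matrix.zero_mulVec]
    by_contra h3
    apply hcon _ h3
    rw [← aeval_mul_mulVec, ← hm, minpoly.aeval, Matrix.zero_mulVec]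
  have hm0 : m ≠ 0 := by
    rintro rfl
    rw [mul_zero] at hm
    exact hne hm
  have h4 := minpoly.dvd F x h2
  have h5 := natDegree_le_of_dvd h4 hm0
  rw [hm, natDegree_mul hφ.ne_zero hm0] at h5
  have h6 := hφ.natDegree_pos
  omega

end alg

section count

variable {F ι : Type} [Field F] [Fintype F] [Fintype ι] [DecidableEq ι]

instance finite_degreeLT (n : ℕ) : Finite (degreeLT F n) := Finite.of_equiv _ (degreeLTEquiv F n).symm.toEquiv

theorem card_degreeLT (n : ℕ) : Nat.card (degreeLT F n) = Fintype.card F ^ n := by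
  rw [Nat.card_congr (degreeLTEquiv F n).toEquiv, Nat.card_fun, Nat.card_eq_fintype_card, Nat.card_eq_fintype_card,
    Fintype.card_fin]

/-- the vectors `g (x) v` -/
theorem inj_aux {x : Matrix ι ι F} {f : F[X]} (hf : f.Monic) {v : ι → F} (hv : Ann x v f) {g g' : F[X]}
    (hg : g ∈ degreeLT F f.natDegree) (hg' : g' ∈ degreeLT F f.natDegree)
    (h : (aeval x g).mulVec v = (aeval x g').mulVec v) : g = g' := by
  have h1 : (aeval x (g - g')).mulVec v = 0 := by
    rw [map_sub, Matrix.sub_mulVec, h, sub_self]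
  have h2 := (hv _).1 h1
  have h3 : g - g' ∈ degreeLT F f.natDegree := Submodule.sub_mem _ hg hg'
  rw [mem_degreeLT] at h3
  rw [← sub_eq_zero]
  refine Polynomial.eq_zero_of_dvd_of_degree_lt h2 ?_
  rwa [degree_eq_natDegree hf.ne_zero]

theorem card_ker {x : Matrix ι ι F} {φ : F[X]} (hφ : Irreducible φ) (hm : φ.Monic) {v : ι → F} (hv : v ≠ 0)
    (h : (aeval x φ).mulVec v = 0) : Fintype.card F ^ φ.natDegree ≤ Nat.card (kerP x φ) := by
  rw [← card_degreeLT]
  have hA := ann_of_irr hφ hv h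
  refine Nat.card_le_card_of_injective (fun g : degreeLT F φ.natDegree => (⟨(aeval x g.1).mulVec v, by
    show (aeval x φ).mulVec _ = 0
    rw [← aeval_mul_mulVec, mul_comm, aeval_mul_mulVec, h, Matrix.mulVec_zero]⟩ : kerP x φ)) ?_
  rintro ⟨g, hg⟩ ⟨g', hg'⟩ hgg
  exact Subtype.ext (inj_aux hm hA hg hg' (congrArg Subtype.val hgg))

/-- the nonzero vectors of the kernel -/
theorem nA_ker (x : Matrix ι ι F) {φ : F[X]} (hφ : Irreducible φ) : Nat.card (kerP x φ) ≤ nA x φ + 1 := by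
  classical
  unfold nA
  have h0 : Nat.card (Option {v : ι → F // Ann x v φ}) = Nat.card {v : ι → F // Ann x v φ} + 1 :=
    Finite.card_option
  rw [← h0]
  refine Nat.card_le_card_of_injective (fun v : kerP x φ => if hv : v.1 = 0 then none
    else some (⟨v.1, ann_of_irr hφ hv v.2⟩ : {v : ι → F // Ann x v φ})) ?_
  rintro ⟨v, hv⟩ ⟨w, hw⟩ h
  by_cases h1 : v = 0
  · by_cases h2 : w = 0
    · subst h1 h2; rfl
    · simp [h1, h2] at h
  · by_cases h2 : w = 0
    · simp [h1, h2] at h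
    · simp only [h1, h2, dite_false, Option.some.injEq, Subtype.mk.injEq] at h
      exact Subtype.ext h

/-- the generators of a cyclic module -/
theorem nA_pow {x : Matrix ι ι F} {φ : F[X]} (hφ : Irreducible φ) (hm : φ.Monic) {b : ℕ} (hb : 1 ≤ b) {v : ι → F}
    (hv : Ann x v (φ ^ b)) :
    (Fintype.card F ^ φ.natDegree) ^ b ≤ nA x (φ ^ b) + (Fintype.card F ^ φ.natDegree) ^ (b - 1) := by
  classical
  obtain ⟨c, rfl⟩ : ∃ c, b = c + 1 := ⟨b - 1, by omega⟩
  rw [Nat.add_sub_cancel, ← pow_mul, ← pow_mul, ← card_degreeLT, ← card_degreeLT]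
  have hdeg : (φ ^ (c + 1)).natDegree = φ.natDegree * (c + 1) := by rw [natDegree_pow, mul_comm]
  unfold nA
  rw [← Nat.card_sum]
  have key : ∀ g : degreeLT F (φ.natDegree * (c + 1)), ¬ φ ∣ g.1 → Ann x ((aeval x g.1).mulVec v) (φ ^ (c + 1)) := by
    intro g hg k
    rw [← aeval_mul_mulVec, hv]
    have hcop : IsCoprime (φ ^ (c + 1)) g.1 := ((hφ.coprime_iff_not_dvd).2 hg).pow_left
    exact ⟨fun h => hcop.dvd_of_dvd_mul_right h, fun h => dvd_mul_of_dvd_left h _⟩
  have key2 : ∀ g : degreeLT F (φ.natDegree * (c + 1)), φ ∣ g.1 → ∃ k : degreeLT F (φ.natDegree * c), φ * k.1 = g.1 := by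
    rintro ⟨g, hg⟩ ⟨k, hk⟩
    refine ⟨⟨k, ?_⟩, hk.symm⟩
    rw [mem_degreeLT] at hg ⊢
    by_cases hk0 : k = 0
    · rw [hk0, degree_zero]; exact WithBot.bot_lt_coe _
    · simp only at hk
      rw [hk, degree_mul, degree_eq_natDegree hφ.ne_zero, degree_eq_natDegree hk0, ← Nat.cast_add, Nat.cast_lt] at hg
      rw [degree_eq_natDegree hk0, Nat.cast_lt]
      have : φ.natDegree * (c + 1) = φ.natDegree * c + φ.natDegree := by ring
      omega
  choose K hK using key2
  refine Nat.card_le_card_of_injective (fun g : degreeLT F (φ.natDegree * (c + 1)) =>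
    if hg : φ ∣ g.1 then (Sum.inr (K g hg) : {v : ι → F // Ann x v (φ ^ (c + 1))} ⊕ degreeLT F (φ.natDegree * c))
    else Sum.inl ⟨_, key g hg⟩) ?_
  intro g g' h
  by_cases h1 : φ ∣ g.1
  · by_cases h2 : φ ∣ g'.1
    · simp only [h1, h2, dite_true, Sum.inr.injEq] at h
      apply Subtype.ext
      rw [← hK g h1, ← hK g' h2, h]
    · simp [h1, h2] at h
  · by_cases h2 : φ ∣ g'.1
    · simp [h1, h2] at h
    · simp only [h1, h2, dite_false, Sum.inl.injEq, Subtype.mk.injEq] at h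
      apply Subtype.ext
      have hm' : (φ ^ (c + 1)).Monic := hm.pow _
      exact inj_aux hm' hv (by rw [hdeg]; exact g.2) (by rw [hdeg]; exact g'.2) h

end count

section C

variable {F ι : Type} [Field F] [Fintype F] [Fintype ι] [DecidableEq ι] {G : Type} [Group G] [Finite G]
  {ρ : G →* Matrix ι ι F}

/-- the first moment method -/
theorem fm_count {c : ℝ} {f : F[X]} (h : FM ρ f c) {P : G → Prop} {N : ℝ} (hN : ∀ x, P x → N ≤ nA (ρ x) f) :
    (Nat.card {x : G // P x} : ℝ) * N ≤ c * Nat.card G := by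
  classical
  have hFG : Fintype G := Fintype.ofFinite G
  refine le_trans ?_ h
  have e : {xv : G × (ι → F) // Ann (ρ xv.1) xv.2 f} ≃ Σ x : G, {v : ι → F // Ann (ρ x) v f} :=
    { toFun := fun a => ⟨a.1.1, a.1.2, a.2⟩
      invFun := fun a => ⟨(a.1, a.2.1), a.2.2⟩
      left_inv := fun _ => rfl
      right_inv := fun _ => rfl }
  rw [Nat.card_congr e, Nat.card_sigma]
  push_cast
  calc (Nat.card {x : G // P x} : ℝ) * N = ∑ x ∈ Finset.univ.filter P, N := by
        rw [Finset.sum_const, nsmul_eq_mul, Nat.card_eq_fintype_card, Fintype.card_subtype]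
    _ ≤ ∑ x ∈ Finset.univ.filter P, (Nat.card {v : ι → F // Ann (ρ x) v f} : ℝ) :=
        Finset.sum_le_sum fun x hx => hN x (Finset.mem_filter.1 hx).2
    _ ≤ ∑ x : G, (Nat.card {v : ι → F // Ann (ρ x) v f} : ℝ) :=
        Finset.sum_le_sum_of_subset_of_nonneg (Finset.filter_subset _ _) fun _ _ _ => Nat.cast_nonneg _

theorem one_le_q (φ : F[X]) : (1 : ℝ) ≤ (Fintype.card F : ℝ) ^ φ.natDegree :=
  one_le_pow₀ (by exact_mod_cast Fintype.card_pos)

theorem occ_prod {c : ℝ} (S : Finset F[X]) (hS : ∀ φ ∈ S, Irreducible φ ∧ φ.Monic ∧ φ.coeff 0 ≠ 0)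
    (h : FM ρ (∏ φ ∈ S, φ) c) :
    (Nat.card {x : G // ∀ φ ∈ S, φ ∈ facs (ρ x)} : ℝ) * ∏ φ ∈ S, ((Fintype.card F : ℝ) ^ φ.natDegree - 1) ≤
      c * Nat.card G := by
  classical
  refine fm_count h fun x hx => ?_
  have key : ∀ T : Finset F[X], T ⊆ S → ∏ φ ∈ T, ((Fintype.card F : ℝ) ^ φ.natDegree - 1) ≤ nA (ρ x) (∏ φ ∈ T, φ) := by
    intro T
    induction T using Finset.induction_on with
    | empty =>
      intro _
      rw [Finset.prod_empty, Finset.prod_empty]
      exact_mod_cast nA_one (ρ x)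
    | insert a T ha ih =>
      intro hT
      rw [Finset.prod_insert ha, Finset.prod_insert ha]
      have haS : a ∈ S := hT (Finset.mem_insert_self a T)
      have ih' := ih ((Finset.subset_insert a T).trans hT)
      obtain ⟨hai, ham, -⟩ := hS a haS
      have hcop : IsCoprime a (∏ φ ∈ T, φ) := by
        refine IsCoprime.prod_right fun b hb => ?_
        have hbS : b ∈ S := hT (Finset.mem_insert_of_mem hb)
        obtain ⟨hbi, hbm, -⟩ := hS b hbS
        refine hai.coprime_iff_not_dvd.2 fun hd => ?_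
        have hab : a = b := Polynomial.eq_of_monic_of_associated ham hbm (hai.associated_of_dvd hbi hd)
        exact ha (hab ▸ hb)
      have hdvd : a ∣ (ρ x).charpoly := by
        have := hx a haS
        unfold facs at this
        exact UniqueFactorizationMonoid.dvd_of_mem_normalizedFactors this
      obtain ⟨v, hv, hv0⟩ := exists_ker hai hdvd
      have h1 := card_ker hai ham hv hv0
      have h2 := nA_ker (ρ x) hai
      have h3 : (Fintype.card F : ℝ) ^ a.natDegree - 1 ≤ nA (ρ x) a := by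
        have : Fintype.card F ^ a.natDegree ≤ nA (ρ x) a + 1 := h1.trans h2
        have h' : (Fintype.card F : ℝ) ^ a.natDegree ≤ nA (ρ x) a + 1 := by exact_mod_cast this
        linarith
      have h4 : (nA (ρ x) a : ℝ) * nA (ρ x) (∏ φ ∈ T, φ) ≤ nA (ρ x) (a * ∏ φ ∈ T, φ) := by
        exact_mod_cast nA_mul (ρ x) hcop
      refine le_trans (mul_le_mul h3 ih' ?_ (Nat.cast_nonneg _)) h4
      exact Finset.prod_nonneg fun φ _ => sub_nonneg.2 (one_le_q φ)
  exact key S (Finset.Subset.refl S)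

theorem occ_pow {c : ℝ} {φ : F[X]} (hφ : Irreducible φ) (hm : φ.Monic) (h0 : φ.coeff 0 ≠ 0) {b : ℕ} (hb : 1 ≤ b)
    (h : FM ρ (φ ^ b) c) :
    (Nat.card {x : G // ∃ v, Ann (ρ x) v (φ ^ b)} : ℝ) * (((Fintype.card F : ℝ) ^ φ.natDegree) ^ b -
      ((Fintype.card F : ℝ) ^ φ.natDegree) ^ (b - 1)) ≤ c * Nat.card G := by
  refine fm_count h fun x hx => ?_
  obtain ⟨v, hv⟩ := hx
  have h1 := nA_pow hφ hm hb hv
  have h2 : ((Fintype.card F : ℝ) ^ φ.natDegree) ^ b ≤ nA (ρ x) (φ ^ b) +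
      ((Fintype.card F : ℝ) ^ φ.natDegree) ^ (b - 1) := by exact_mod_cast h1
  linarith

theorem occ_ker {c : ℝ} {φ : F[X]} (hφ : Irreducible φ) (hm : φ.Monic) (h0 : φ.coeff 0 ≠ 0) {b : ℕ}
    (h : FM ρ φ c) :
    (Nat.card {x : G // (Fintype.card F ^ φ.natDegree) ^ b ≤ Nat.card (kerP (ρ x) φ)} : ℝ) *
      (((Fintype.card F : ℝ) ^ φ.natDegree) ^ b - 1) ≤ c * Nat.card G := by
  refine fm_count h fun x hx => ?_
  have h1 := hx.trans (nA_ker (ρ x) hφ)
  have h2 : ((Fintype.card F : ℝ) ^ φ.natDegree) ^ b ≤ nA (ρ x) φ + 1 := by exact_mod_cast h1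
  linarith

end C

end Cfsg.Agent.H560.RG

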